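import Mathlib
import Cfsg.Prelude.Def_Characters
import Cfsg.Agent.Lib.Helper82.SLDZ.Defs
import Cfsg.Agent.Lib.Helper79.BrauerN.IndLin

/-!
# S2318 (Steinberg = unique `p`-defect-zero character of a Chevalley group): abstract setting (helper82)

`BorelData G` : subgroups `U, T ≤ B` of `G` with `B = U ⋊ T`, `T` commutative.
* `S.proj : B →* T` the retraction with kernel `U`;
* `S.tilde θ : B →* ℂˣ` the inflation of a linear character `θ` of `T`;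
* `S.twist n hn θ : T →* ℂˣ`, `t ↦ θ (n t n⁻¹)`, for `n` normalizing `T`.

`RootDatum S Ψ` : the rank-one data attached to one simple reflection (minimal parabolic `P = B ∪ B n X`),
relative to a family `Ψ` of ("non-degenerate") linear characters of `U`.
-/

set_option autoImplicit false

namespace Cfsg.Agent.Lib.Helper82.StUniq

variable {G : Type*} [Group G]

/-- `B = U ⋊ T` with `T` commutative. -/
structure BorelData (G : Type*) [Group G] where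
  B : Subgroup G
  U : Subgroup G
  T : Subgroup G
  hUB : U ≤ B
  hTB : T ≤ B
  hnorm : ∀ b ∈ B, ∀ u ∈ U, b * u * b⁻¹ ∈ U
  hmul : ∀ b ∈ B, ∃ u ∈ U, ∃ t ∈ T, b = u * t
  hinf : ∀ g ∈ U, g ∈ T → g = 1
  hcomm : ∀ t ∈ T, ∀ t' ∈ T, t * t' = t' * t

namespace BorelData

variable (S : BorelData G)

theorem exists_T (b : ↥S.B) : ∃ t : ↥S.T, ∃ u ∈ S.U, (b : G) = u * (t : G) := by
  obtain ⟨u, hu, t, ht, h⟩ := S.hmul b b.2
  exact ⟨⟨t, ht⟩, u, hu, h⟩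

/-- the `T`-component of an element of `B = U T` -/
noncomputable def projFun (b : ↥S.B) : ↥S.T := Classical.choose (S.exists_T b)

theorem projFun_spec (b : ↥S.B) : ∃ u ∈ S.U, (b : G) = u * (S.projFun b : G) :=
  Classical.choose_spec (S.exists_T b)

theorem eq_of_mul_eq {u u' t t' : G} (hu : u ∈ S.U) (hu' : u' ∈ S.U) (ht : t ∈ S.T) (ht' : t' ∈ S.T)
    (h : u * t = u' * t') : t = t' := by
  have h1 : u'⁻¹ * u = t' * t⁻¹ := by
    have : u'⁻¹ * (u * t) * t⁻¹ = u'⁻¹ * (u' * t') * t⁻¹ := by rw [h]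
    calc u'⁻¹ * u = u'⁻¹ * (u * t) * t⁻¹ := by group
      _ = u'⁻¹ * (u' * t') * t⁻¹ := this
      _ = t' * t⁻¹ := by group
  have h2 : t' * t⁻¹ = 1 :=
    S.hinf _ (h1 ▸ S.U.mul_mem (S.U.inv_mem hu') hu) (S.T.mul_mem ht' (S.T.inv_mem ht))
  exact (mul_inv_eq_one.1 h2).symm

theorem projFun_unique (b : ↥S.B) {t u : G} (ht : t ∈ S.T) (hu : u ∈ S.U) (h : (b : G) = u * t) :
    S.projFun b = ⟨t, ht⟩ := by
  obtain ⟨u', hu', h'⟩ := S.projFun_spec b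
  apply Subtype.ext
  exact S.eq_of_mul_eq hu' hu (S.projFun b).2 ht (h'.symm.trans h)

/-- the retraction `B = U ⋊ T → T` -/
noncomputable def proj : ↥S.B →* ↥S.T where
  toFun := S.projFun
  map_one' := S.projFun_unique 1 S.T.one_mem S.U.one_mem (by simp)
  map_mul' := by
    intro a b
    obtain ⟨u, hu, ha⟩ := S.projFun_spec a
    obtain ⟨u', hu', hb⟩ := S.projFun_spec b
    have ht : (S.projFun a : G) ∈ S.B := S.hTB (S.projFun a).2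
    have h1 : (S.projFun a : G) * u' * (S.projFun a : G)⁻¹ ∈ S.U := S.hnorm _ ht _ hu'
    have h2 : ((a * b : ↥S.B) : G) =
        (u * ((S.projFun a : G) * u' * (S.projFun a : G)⁻¹)) *
          ((S.projFun a : G) * (S.projFun b : G)) := by
      rw [Subgroup.coe_mul, ha, hb]; group
    exact S.projFun_unique (a * b) (S.T.mul_mem (S.projFun a).2 (S.projFun b).2)
      (S.U.mul_mem hu h1) h2

theorem proj_of_mem_U {u : G} (hu : u ∈ S.U) : S.proj ⟨u, S.hUB hu⟩ = 1 :=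
  S.projFun_unique ⟨u, S.hUB hu⟩ S.T.one_mem hu (by simp)

theorem proj_of_mem_T {t : G} (ht : t ∈ S.T) : S.proj ⟨t, S.hTB ht⟩ = ⟨t, ht⟩ :=
  S.projFun_unique ⟨t, S.hTB ht⟩ ht S.U.one_mem (by simp)

theorem proj_mul {u t : G} (hu : u ∈ S.U) (ht : t ∈ S.T) :
    S.proj ⟨u * t, S.B.mul_mem (S.hUB hu) (S.hTB ht)⟩ = ⟨t, ht⟩ :=
  S.projFun_unique ⟨u * t, S.B.mul_mem (S.hUB hu) (S.hTB ht)⟩ ht hu rfl

theorem mem_U_of_proj_eq_one {b : ↥S.B} (h : S.proj b = 1) : (b : G) ∈ S.U := by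
  obtain ⟨u, hu, hb⟩ := S.projFun_spec b
  have h' : S.projFun b = 1 := h
  rw [hb, h', OneMemClass.coe_one, mul_one]
  exact hu

/-- the linear character of `B` inflated from the linear character `θ` of `T` -/
noncomputable def tilde (θ : ↥S.T →* ℂˣ) : ↥S.B →* ℂˣ := θ.comp S.proj

theorem tilde_apply (θ : ↥S.T →* ℂˣ) (b : ↥S.B) : S.tilde θ b = θ (S.proj b) := rfl

theorem tilde_of_mem_U (θ : ↥S.T →* ℂˣ) {u : G} (hu : u ∈ S.U) :
    S.tilde θ ⟨u, S.hUB hu⟩ = 1 := by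
  rw [tilde_apply, S.proj_of_mem_U hu, map_one]

theorem tilde_of_mem_T (θ : ↥S.T →* ℂˣ) {t : G} (ht : t ∈ S.T) :
    S.tilde θ ⟨t, S.hTB ht⟩ = θ ⟨t, ht⟩ := by
  rw [tilde_apply, S.proj_of_mem_T ht]

/-- `θ` twisted by an element `n` normalizing `T`: `t ↦ θ (n t n⁻¹)` -/
def twist (n : G) (hn : ∀ t ∈ S.T, n * t * n⁻¹ ∈ S.T) (θ : ↥S.T →* ℂˣ) : ↥S.T →* ℂˣ where
  toFun t := θ ⟨n * (t : G) * n⁻¹, hn t t.2⟩
  map_one' := by
    have : (⟨n * ((1 : ↥S.T) : G) * n⁻¹, hn _ (1 : ↥S.T).2⟩ : ↥S.T) = 1 := by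
      apply Subtype.ext; simp
    rw [this, map_one]
  map_mul' := by
    intro a b
    have : (⟨n * ((a * b : ↥S.T) : G) * n⁻¹, hn _ (a * b).2⟩ : ↥S.T) =
        ⟨n * (a : G) * n⁻¹, hn _ a.2⟩ * ⟨n * (b : G) * n⁻¹, hn _ b.2⟩ := by
      apply Subtype.ext
      simp only [Subgroup.coe_mul]
      group
    rw [this, map_mul]

theorem twist_apply (n : G) (hn : ∀ t ∈ S.T, n * t * n⁻¹ ∈ S.T) (θ : ↥S.T →* ℂˣ) (t : ↥S.T) :
    S.twist n hn θ t = θ ⟨n * (t : G) * n⁻¹, hn t t.2⟩ := rfl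

end BorelData

/-- The rank-one data of one simple reflection, relative to a family `Ψ` of linear characters of `U`:
`P = B ∪ B n X` is a subgroup, `X ≤ U` is commutative, `n` normalizes `T`; conjugation by `m` carries
`n X n⁻¹` into `U` and nothing else of `P`; every nontrivial linear character of `X` is
`x ↦ ψ (m n x n⁻¹ m⁻¹)` for some `ψ ∈ Ψ`. -/
structure RootDatum (S : BorelData G) (Ψ : Set (↥S.U →* ℂˣ)) where
  P : Subgroup G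
  n : G
  X : Subgroup G
  m : G
  hBP : S.B ≤ P
  hnP : n ∈ P
  hnB : n ∉ S.B
  hcov : ∀ g ∈ P, g ∈ S.B ∨ ∃ b ∈ S.B, ∃ x ∈ X, g = b * n * x
  hXU : X ≤ S.U
  hXcomm : ∀ x ∈ X, ∀ y ∈ X, x * y = y * x
  hnT : ∀ t ∈ S.T, n * t * n⁻¹ ∈ S.T
  hnT' : ∀ t ∈ S.T, n⁻¹ * t * n ∈ S.T
  hpB : ∀ u ∈ S.U, n⁻¹ * u * n ∈ S.B → n⁻¹ * u * n ∈ S.U
  hmX : ∀ x ∈ X, m * (n * x * n⁻¹) * m⁻¹ ∈ S.U
  hmP : ∀ v ∈ P, m * v * m⁻¹ ∈ S.U → ∃ x ∈ X, v = n * x * n⁻¹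
  hΨ : ∀ ξ : ↥X →* ℂˣ, ξ ≠ 1 → ∃ ψ ∈ Ψ, ∀ (x : G) (hx : x ∈ X),
    ψ ⟨m * (n * x * n⁻¹) * m⁻¹, hmX x hx⟩ = ξ ⟨x, hx⟩

/-- the "generic cell" hypothesis for a linear character `ψ` of `U`: off the double coset `B n₀ U`
every `g` admits `x ∈ U` with `g⁻¹ x g ∈ U` and `ψ (g⁻¹ x g) ≠ 1`. -/
def CellHyp (S : BorelData G) (n₀ : G) (ψ : ↥S.U →* ℂˣ) : Prop :=
  ∀ g : G, (¬ ∃ b ∈ S.B, ∃ u ∈ S.U, g = b * n₀ * u) →
    ∃ x ∈ S.U, ∃ hx : g⁻¹ * x * g ∈ S.U, ψ ⟨g⁻¹ * x * g, hx⟩ ≠ 1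

end Cfsg.Agent.Lib.Helper82.StUniq
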