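import Cfsg.Agent.Lib.Helper18.Bruhat1
import Cfsg.Agent.Lib.Helper18.Borel
import Cfsg.Agent.S1034
import Cfsg.Agent.S1036
import Cfsg.Agent.S1043
import Cfsg.Agent.Lib.Helper82.StUniq.Defs

/-!
# S2318: the Borel data of a Chevalley group `D.group F` (helper82)

* `IsLongestRep D F n₀` : `n₀ ∈ N` and `n₀ U n₀⁻¹ = V`;
* `UG, TG, BG` : `U, H, B` as subgroups of `↥(D.group F)`;
* `chevS hD : BorelData ↥(D.group F)`;
* `xE hD r t : ↥(D.group F)` the root element; `nondeg hD` the family of non-degenerate linear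
  characters of `U`.
-/

set_option autoImplicit false

namespace Cfsg.Agent.Lib.Helper82.StChev

open Cfsg Cfsg.Lie Cfsg.Agent.Lib.Helper18 Cfsg.Agent.Lib.Helper82.StUniq

universe u
variable {F : Type u} [Field F] {D : ChevalleyDatum}

/-- `n₀ ∈ N` represents the longest element: `n₀ U n₀⁻¹ = V` (exists by `Cfsg.Agent.S1053.result`). -/
def IsLongestRep (D : ChevalleyDatum) (F : Type u) [Field F] (n₀ : GL D.Idx F) : Prop :=
  n₀ ∈ D.monomialSubgroup F ∧
    (D.posUnipotent F).map (MulAut.conj n₀).toMonoidHom = D.negUnipotent F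

/-- `U` inside the Chevalley group -/
def UG (D : ChevalleyDatum) (F : Type u) [Field F] : Subgroup ↥(D.group F) :=
  (D.posUnipotent F).subgroupOf (D.group F)

/-- `H` inside the Chevalley group -/
def TG (D : ChevalleyDatum) (F : Type u) [Field F] : Subgroup ↥(D.group F) :=
  (D.diagonalSubgroup F).subgroupOf (D.group F)

/-- `B` inside the Chevalley group -/
def BG (D : ChevalleyDatum) (F : Type u) [Field F] : Subgroup ↥(D.group F) :=
  (D.borelSubgroup F).subgroupOf (D.group F)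

theorem mem_UG {g : ↥(D.group F)} : g ∈ UG D F ↔ (g : GL D.Idx F) ∈ D.posUnipotent F := Iff.rfl
theorem mem_TG {g : ↥(D.group F)} : g ∈ TG D F ↔ (g : GL D.Idx F) ∈ D.diagonalSubgroup F := Iff.rfl
theorem mem_BG {g : ↥(D.group F)} : g ∈ BG D F ↔ (g : GL D.Idx F) ∈ D.borelSubgroup F := Iff.rfl

/-- `H` is commutative: its elements are diagonal matrices. -/
theorem diagonal_comm' (hD : D ∈ [chevG2, chevB2, chevD4, chevF4, chevE6, chevE7, chevE8])
    (h h' : GL D.Idx F) (hh : h ∈ D.diagonalSubgroup F) (hh' : h' ∈ D.diagonalSubgroup F) :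
    h * h' = h' * h := by
  obtain ⟨c, -, hc⟩ := Cfsg.Agent.S1034.mem_diagonalSubgroup_torus D hD h hh
  obtain ⟨c', -, hc'⟩ := Cfsg.Agent.S1034.mem_diagonalSubgroup_torus D hD h' hh'
  apply Units.ext
  rw [Units.val_mul, Units.val_mul, hc, hc', Matrix.diagonal_mul_diagonal, Matrix.diagonal_mul_diagonal]
  congr 1
  funext i
  exact mul_comm _ _

/-- The Borel data `B = U ⋊ H` of the Chevalley group. -/
def chevS (hD : D ∈ [chevG2, chevB2, chevD4, chevF4, chevE6, chevE7, chevE8]) :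
    BorelData ↥(D.group F) where
  B := BG D F
  U := UG D F
  T := TG D F
  hUB := fun g hg => mem_BG.2 (Subgroup.mem_sup_left (mem_UG.1 hg))
  hTB := fun g hg => mem_BG.2 (Subgroup.mem_sup_right (mem_TG.1 hg))
  hnorm := by
    intro b hb u hu
    have hBN : D.borelSubgroup F ≤ Subgroup.normalizer (D.posUnipotent F : Set (GL D.Idx F)) :=
      sup_le Subgroup.le_normalizer (Cfsg.Agent.S1036.result D hD).1
    have h1 := (Subgroup.mem_normalizer_iff.1 (hBN (mem_BG.1 hb)) (u : GL D.Idx F)).1 (mem_UG.1 hu)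
    exact mem_UG.2 h1
  hmul := by
    intro b hb
    obtain ⟨u, hu, h, hh, e⟩ := (mem_borel_iff D hD _).1 (mem_BG.1 hb)
    obtain ⟨hBG, -, -⟩ := Cfsg.Agent.S1043.result (F := F) D hD
    refine ⟨⟨u, hBG (Subgroup.mem_sup_left hu)⟩, hu, ⟨h, hBG (Subgroup.mem_sup_right hh)⟩, hh, ?_⟩
    exact Subtype.ext e.symm
  hinf := by
    intro g hgU hgT
    have h1 : (g : GL D.Idx F) ∈ D.posUnipotent F ⊓ D.diagonalSubgroup F :=
      Subgroup.mem_inf.2 ⟨mem_UG.1 hgU, mem_TG.1 hgT⟩
    rw [(Cfsg.Agent.S1036.result D hD).2, Subgroup.mem_bot] at h1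
    exact Subtype.ext h1
  hcomm := by
    intro t ht t' ht'
    exact Subtype.ext (diagonal_comm' hD _ _ (mem_TG.1 ht) (mem_TG.1 ht'))

@[simp] theorem chevS_B (hD : D ∈ [chevG2, chevB2, chevD4, chevF4, chevE6, chevE7, chevE8]) :
    (chevS (F := F) hD).B = BG D F := rfl
@[simp] theorem chevS_U (hD : D ∈ [chevG2, chevB2, chevD4, chevF4, chevE6, chevE7, chevE8]) :
    (chevS (F := F) hD).U = UG D F := rfl
@[simp] theorem chevS_T (hD : D ∈ [chevG2, chevB2, chevD4, chevF4, chevE6, chevE7, chevE8]) :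
    (chevS (F := F) hD).T = TG D F := rfl

theorem xG_mem_group (hD : D ∈ [chevG2, chevB2, chevD4, chevF4, chevE6, chevE7, chevE8]) (r : ℕ) (t : F) :
    xG hD r t ∈ D.group F := by
  by_cases hr : r < D.nroots
  · apply Subgroup.subset_closure
    refine ⟨⟨r, hr⟩, t, ?_⟩
    rw [coe_xG]
    unfold ChevalleyDatum.x
    rw [dif_pos hr]
  · have : xG hD r t = 1 := by
      apply Units.ext
      rw [coe_xG]
      unfold ChevalleyDatum.x
      rw [dif_neg hr, Units.val_one]
    rw [this]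
    exact one_mem _

/-- the root element `x_r(t)` as an element of the Chevalley group -/
noncomputable def xE (hD : D ∈ [chevG2, chevB2, chevD4, chevF4, chevE6, chevE7, chevE8]) (r : ℕ) (t : F) :
    ↥(D.group F) := ⟨xG hD r t, xG_mem_group hD r t⟩

@[simp] theorem coe_xE (hD : D ∈ [chevG2, chevB2, chevD4, chevF4, chevE6, chevE7, chevE8]) (r : ℕ) (t : F) :
    ((xE hD r t : ↥(D.group F)) : GL D.Idx F) = xG hD r t := rfl

theorem xE_mem_UG (hD : D ∈ [chevG2, chevB2, chevD4, chevF4, chevE6, chevE7, chevE8]) (r : ℕ) (t : F)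
    (hr : D.IsPosRoot r) : xE hD r t ∈ UG D F :=
  mem_UG.2 (xG_mem_posUnipotent hD r t hr)

/-- The non-degenerate linear characters of `U`: trivial on the root groups of the non-fundamental
positive roots, nontrivial on every fundamental root group. -/
def nondeg (hD : D ∈ [chevG2, chevB2, chevD4, chevF4, chevE6, chevE7, chevE8]) :
    Set (↥(chevS (F := F) hD).U →* ℂˣ) :=
  {ψ | (∀ (s : ℕ) (t : F) (hs : D.IsPosRoot s), (∀ i < D.rank, s ≠ D.simple i) →
          ψ ⟨xE hD s t, xE_mem_UG hD s t hs⟩ = 1) ∧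
       ∀ i < D.rank, ∃ (t : F) (hs : D.IsPosRoot (D.simple i)),
          ψ ⟨xE hD (D.simple i) t, xE_mem_UG hD (D.simple i) t hs⟩ ≠ 1}

end Cfsg.Agent.Lib.Helper82.StChev
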