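import Mathlib
import Cfsg.Agent.Lib.Helper82.StUniq.Defs
import Cfsg.Agent.Lib.Helper6.StUniq.Stage1
import Cfsg.Agent.Lib.Helper6.StUniq.Stage2
import Cfsg.Agent.Lib.Helper93.StUniq.Reg
import Cfsg.Agent.Lib.Helper93.StUniq.Pick
import Cfsg.Agent.Lib.Helper23.StUniq.Cell
import Cfsg.Agent.Lib.Helper36.StUniq.Orth
import Cfsg.Agent.Lib.Helper73.StUniq.Rank1Lin
import Cfsg.Agent.Lib.Helper24.StUniq.Dagger
import Cfsg.Agent.Lib.Helper66.StUniq.Stage3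

/-!
# S2318, [A-MAIN] (helper82): a finite group with a "split BN-pair like" structure has at most one
irreducible character vanishing on `U \ {1}`.
-/

set_option autoImplicit false

namespace Cfsg.Agent.Lib.Helper82.StUniq

open Cfsg
open scoped ComplexConjugate
open Cfsg.Agent.Lib.Helper79.BrauerN (linFun isCharacter_indFun_linFun)
open Cfsg.Agent.Lib.Helper82.SLDZ (Compat)

universe u
variable {G : Type u} [Group G]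

open Classical in
/-- **[A-DAGGER]**, sheet form (closing term of helper24). -/
theorem theta_eq_one_on_root [Fintype G] (S : BorelData G) (Ψ : Set (↥S.U →* ℂˣ))
    (R : RootDatum S Ψ) (χ : G → ℂ) (hχ : IsIrrCharacter G χ)
    (hgen : ∀ ψ ∈ Ψ, classInner χ (indFun S.U (linFun ψ)) = 1)
    (hle : ∀ ψ ∈ Ψ, ∀ θ : ↥S.T →* ℂˣ, ∃ k : ℕ, k ≤ 1 ∧
      classInner (indFun S.B (linFun (S.tilde θ))) (indFun S.U (linFun ψ)) = (k : ℂ))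
    (θ : ↥S.T →* ℂˣ) (hθ : classInner χ (indFun S.B (linFun (S.tilde θ))) = 1)
    (hθ' : ∀ θ' : ↥S.T →* ℂˣ, θ' ≠ θ → classInner χ (indFun S.B (linFun (S.tilde θ'))) = 0)
    (t : G) (ht : t ∈ S.T)
    (htX : t ∈ R.X ⊔ R.X.map (MulAut.conj R.n).toMonoidHom) : θ ⟨t, ht⟩ = 1 := by
  have hcov' : ∀ g ∈ R.P, g ∈ S.B ∨ ∃ b ∈ S.B, ∃ b' ∈ S.B, g = b * R.n * b' := by
    intro g hg
    rcases R.hcov g hg with h | ⟨b, hb, x, hx, h⟩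
    · exact Or.inl h
    · exact Or.inr ⟨b, hb, x, S.hUB (R.hXU hx), h⟩
  exact Cfsg.Agent.Lib.Helper24.StUniq.theta_eq_one_on_root_of S Ψ R χ
    (fun θ => Cfsg.Agent.Lib.Helper6.StUniq.indFun_tilde_twist S R.P R.n R.hBP R.hnP hcov' R.hnT
      R.hnT' R.hpB θ)
    (fun Ψ₀ hΨ₀ h1 => Cfsg.Agent.Lib.Helper93.StUniq.exists_irr_pick R.P Ψ₀ hΨ₀ χ hχ h1)
    (fun Λ Λ₂ hΛ hΛ₂ h1 ψ h2 k hk hle m =>
      Cfsg.Agent.Lib.Helper36.StUniq.sum_conj_eq_zero R.P S.U Λ Λ₂ hΛ hΛ₂ χ hχ h1 ψ h2 k hk hle m)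
    (fun B X n hXB hnB hcov hXcomm α hαX hc Λ hΛ h1 horth =>
      Cfsg.Agent.Lib.Helper73.StUniq.exists_linear_extension B X n hXB hnB hcov hXcomm α hαX hc Λ hΛ
        h1 horth)
    hgen hle θ hθ hθ' t ht htX

/-- the unique `θ` of stage one is trivial, and `χ` is generic for every `ψ ∈ Ψ` -/
theorem theta_trivial [Fintype G] (S : BorelData G) (Ψ : Set (↥S.U →* ℂˣ))
    (hΨne : Ψ.Nonempty) (n₀ : G) (hcell : ∀ ψ ∈ Ψ, CellHyp S n₀ ψ)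
    {ι : Type*} (R : ι → RootDatum S Ψ)
    (hT : ∀ θ : ↥S.T →* ℂˣ,
      (∀ (i : ι) (t : G) (ht : t ∈ S.T),
        t ∈ (R i).X ⊔ (R i).X.map (MulAut.conj (R i).n).toMonoidHom → θ ⟨t, ht⟩ = 1) → θ = 1)
    (χ : G → ℂ) (hχ : IsIrrCharacter G χ) (hv : ∀ u ∈ S.U, u ≠ 1 → χ u = 0) :
    classInner χ (indFun S.B (linFun (S.tilde 1))) = 1 ∧
      ∀ ψ ∈ Ψ, classInner χ (indFun S.U (linFun ψ)) = 1 := by
  classical
  letI : Fintype (↥S.T →* ℂˣ) := Fintype.ofFinite _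
  obtain ⟨ψ₀, hψ₀⟩ := hΨne
  obtain ⟨h1, θ, hθ, hθ'⟩ :=
    Cfsg.Agent.Lib.Helper6.StUniq.stage_one S n₀ ψ₀ (hcell ψ₀ hψ₀) χ hχ hv
  have hcf : IsClassFunction G χ :=
    Cfsg.Agent.Lib.Helper78.isClassFunction_irr ⟨χ, hχ⟩
  have hU0 : (Nat.card S.U : ℂ) ≠ 0 := by
    have : Nat.card S.U ≠ 0 := Nat.card_pos.ne'
    exact_mod_cast this
  have hgen : ∀ ψ ∈ Ψ, classInner χ (indFun S.U (linFun ψ)) = 1 := by
    intro ψ _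
    rw [Cfsg.Agent.Lib.Helper93.StUniq.classInner_indFun_of_vanish S.U χ hcf hv ψ, h1, div_self hU0]
  have hle : ∀ ψ ∈ Ψ, ∀ θ : ↥S.T →* ℂˣ, ∃ k : ℕ, k ≤ 1 ∧
      classInner (indFun S.B (linFun (S.tilde θ))) (indFun S.U (linFun ψ)) = (k : ℂ) :=
    fun ψ hψ θ => Cfsg.Agent.Lib.Helper23.StUniq.classInner_tilde_le_one S n₀ ψ (hcell ψ hψ) θ
  have hθ1 : θ = 1 := hT θ (fun i t ht htX =>
    theta_eq_one_on_root S Ψ (R i) χ hχ hgen hle θ hθ hθ' t ht htX)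
  subst hθ1
  exact ⟨hθ, hgen⟩

/-- **[A-MAIN]** at most one irreducible character vanishes on `U \ {1}`. -/
theorem unique_vanishing_character [Fintype G] (S : BorelData G) (Ψ : Set (↥S.U →* ℂˣ))
    (hΨne : Ψ.Nonempty) (n₀ : G) (hcell : ∀ ψ ∈ Ψ, CellHyp S n₀ ψ)
    {ι : Type*} (R : ι → RootDatum S Ψ)
    (hT : ∀ θ : ↥S.T →* ℂˣ,
      (∀ (i : ι) (t : G) (ht : t ∈ S.T),
        t ∈ (R i).X ⊔ (R i).X.map (MulAut.conj (R i).n).toMonoidHom → θ ⟨t, ht⟩ = 1) → θ = 1)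
    (χ χ' : G → ℂ) (hχ : IsIrrCharacter G χ) (hχ' : IsIrrCharacter G χ')
    (hv : ∀ u ∈ S.U, u ≠ 1 → χ u = 0) (hv' : ∀ u ∈ S.U, u ≠ 1 → χ' u = 0) : χ = χ' := by
  obtain ⟨h1, h2⟩ := theta_trivial S Ψ hΨne n₀ hcell R hT χ hχ hv
  obtain ⟨h1', h2'⟩ := theta_trivial S Ψ hΨne n₀ hcell R hT χ' hχ' hv'
  obtain ⟨ψ₀, hψ₀⟩ := hΨne
  obtain ⟨k, hk, hΦΓ⟩ :=
    Cfsg.Agent.Lib.Helper23.StUniq.classInner_tilde_le_one S n₀ ψ₀ (hcell ψ₀ hψ₀) 1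
  exact Cfsg.Agent.Lib.Helper66.StUniq.eq_of_common_constituents _ _
    (isCharacter_indFun_linFun _ _) (isCharacter_indFun_linFun _ _)
    k hk hΦΓ χ χ' hχ hχ' h1 (h2 ψ₀ hψ₀) h1' (h2' ψ₀ hψ₀)

end Cfsg.Agent.Lib.Helper82.StUniq
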