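import Mathlib
import Cfsg.Prelude.Def_Characters
import Cfsg.Agent.S0165

/-!
# An irreducible character whose degree is divisible by the full `p`-part of `|G|` vanishes on
`p`-singular elements (wrapper around S0165 for `IsIrrCharacter`), helper82
-/

set_option autoImplicit false

namespace Cfsg.Agent.Lib.Helper82.StUniq

open Cfsg

theorem vanish_of_full_p_part {G : Type*} [Group G] [Finite G] (p : ℕ) [hp : Fact p.Prime]
    (χ : G → ℂ) (hχ : IsIrrCharacter G χ)
    (hdeg : ∃ d : ℕ, χ 1 = (d : ℂ) ∧ p ^ (Nat.card G).factorization p ∣ d)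
    (g : G) (hg : p ∣ orderOf g) : χ g = 0 := by
  obtain ⟨m, ρ, hirr, hχρ⟩ := hχ
  obtain ⟨d, hd1, hd2⟩ := hdeg
  have hcard : Nat.card G ≠ 0 := Nat.card_pos.ne'
  have hdm : d = m := by
    have h1 : ρ.character 1 = (m : ℂ) := by
      rw [Representation.char_one]
      simp
    rw [hχρ, hd1] at h1
    exact_mod_cast h1
  rw [← hχρ]
  haveI := hirr
  apply Cfsg.Agent.S0165.result ρ p ((Nat.card G).factorization p) hp.out
  · exact Nat.ordProj_dvd _ _
  · exact Nat.pow_succ_factorization_not_dvd hcard hp.out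
  · rw [Module.finrank_fin_fun, ← hdm]
    exact hd2
  · exact hg

end Cfsg.Agent.Lib.Helper82.StUniq
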